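import Mathlib
import Groth.Prelude.Def_Cyc
import Groth.Agent.Lib.Helper4.FibDimComp1

set_option linter.style.haveILetI false
set_option linter.unusedVariables false
set_option linter.unusedSectionVars false
set_option autoImplicit false
set_option backward.isDefEq.respectTransparency.types false
set_option synthInstance.maxHeartbeats 400000
set_option maxHeartbeats 1600000

namespace Groth.Agent.Helper7.CycLim

open CategoryTheory CategoryTheory.Limits AlgebraicGeometry IsLocalRing
open Groth.Agent.Lib.Helper4.FibDimBC2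

universe u

/-! helper7: cycles on cofiltered limits of schemes: injectivity of colim Z_k(X_i) -> Z_k(X') -/

/-! helper7: cycles on limits of schemes: injectivity (helper7) -/

theorem finite_support_of_compact {X : Type*} [TopologicalSpace X] [CompactSpace X]
    (α : Function.locallyFinsupp X ℤ) : (Function.support α).Finite := by
  have h := α.supportLocallyFiniteWithinDomain
  choose t ht hfin using fun z => h z (Set.mem_univ z)
  obtain ⟨s, hs⟩ := isCompact_univ.elim_nhds_subcover t (fun z _ => ht z)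
  refine Set.Finite.subset (s.finite_toSet.biUnion (fun z _ => hfin z)) ?_
  intro x hx
  obtain ⟨z, hz, hxz⟩ := Set.mem_iUnion₂.mp (hs.2 (Set.mem_univ x))
  exact Set.mem_iUnion₂.mpr ⟨z, hz, hxz, hx⟩

/-- the fibre multiplicity at a point which is generic in its fibre is finite and nonzero -/
theorem length_fibreMax_ne {X' X : Scheme.{u}} (p : X' ⟶ X) [IsLocallyNoetherian X'] (s' : X')
    (hmax : ∀ y, p y = p s' → y ⤳ s' → y = s') :
    (Module.length (X'.presheaf.stalk s')
      (X'.presheaf.stalk s' ⧸ Ideal.map (p.stalkMap s').hom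
        (maximalIdeal (X.presheaf.stalk (p s'))))).toNat ≠ 0 := by
  set φ := (p.stalkMap s').hom with hφ
  set I := Ideal.map φ (maximalIdeal (X.presheaf.stalk (p s'))) with hIdef
  have hloc : IsLocalHom φ := by
    rw [hφ]
    infer_instance
  have hI : I ≤ maximalIdeal (X'.presheaf.stalk s') :=
    ((IsLocalRing.local_hom_TFAE φ).out 0 2).mp hloc
  have hne_top : I ≠ ⊤ := fun h => (maximalIdeal.isMaximal _).ne_top (top_le_iff.mp (h ▸ hI))
  have h0 : Module.length (X'.presheaf.stalk s') (X'.presheaf.stalk s' ⧸ I) ≠ 0 := by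
    rw [Ne, Module.length_eq_zero_iff]
    intro hsub
    exact hne_top (Ideal.Quotient.subsingleton_iff.mp hsub)
  have hdim : Ring.KrullDimLE 0 (X'.presheaf.stalk s' ⧸ I) := by
    rw [Ring.krullDimLE_zero_iff]
    intro Q hQ
    set q := Q.comap (Ideal.Quotient.mk I) with hq
    haveI hqp : q.IsPrime := Ideal.comap_isPrime _ _
    have hIq : I ≤ q := by
      intro a ha
      rw [hq, Ideal.mem_comap, Ideal.Quotient.eq_zero_iff_mem.mpr ha]
      exact Q.zero_mem
    -- the point of `X'` attached to `q`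
    let P : PrimeSpectrum (X'.presheaf.stalk s') := ⟨q, hqp⟩
    have hsp : (X'.fromSpecStalk s') P ⤳ s' := by
      have : (X'.fromSpecStalk s') P ∈ Set.range (X'.fromSpecStalk s') := Set.mem_range_self P
      rw [Scheme.range_fromSpecStalk] at this
      exact this
    have hcomap : q.comap φ = maximalIdeal (X.presheaf.stalk (p s')) := by
      have hle : maximalIdeal (X.presheaf.stalk (p s')) ≤ q.comap φ :=
        Ideal.map_le_iff_le_comap.mp hIq
      have hpr : (q.comap φ).IsPrime := Ideal.comap_isPrime _ _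
      exact ((maximalIdeal.isMaximal _).eq_of_le hpr.ne_top hle).symm
    have hp : p ((X'.fromSpecStalk s') P) = p s' := by
      have h1 := congrArg (fun g => g P) (congrArg (fun g : Spec (X'.presheaf.stalk s') ⟶ X => ⇑g)
        (Scheme.SpecMap_stalkMap_fromSpecStalk (f := p) (x := s')))
      simp only [Scheme.Hom.comp_apply] at h1
      rw [← h1]
      have h2 : (Spec.map (p.stalkMap s')) P = closedPoint (X.presheaf.stalk (p s')) := by
        apply PrimeSpectrum.ext
        exact hcomap
      rw [h2, Scheme.fromSpecStalk_closedPoint]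
    have heq := hmax _ hp hsp
    have hP : P = closedPoint (X'.presheaf.stalk s') := by
      apply (X'.fromSpecStalk s').isEmbedding.injective
      rw [heq, Scheme.fromSpecStalk_closedPoint]
    have hqmax : q = maximalIdeal (X'.presheaf.stalk s') := congrArg PrimeSpectrum.asIdeal hP
    have hQ' : Q = q.map (Ideal.Quotient.mk I) :=
      (Ideal.map_comap_of_surjective _ Ideal.Quotient.mk_surjective Q).symm
    rcases Ideal.map_eq_top_or_isMaximal_of_surjective (Ideal.Quotient.mk I)
      Ideal.Quotient.mk_surjective (hqmax ▸ maximalIdeal.isMaximal _ : q.IsMaximal) with h | h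
    · exact absurd (hQ' ▸ h) hQ.ne_top
    · exact hQ' ▸ h
  haveI : IsArtinianRing (X'.presheaf.stalk s' ⧸ I) := isArtinianRing_iff_krullDimLE_zero.mpr hdim
  have hfin : IsFiniteLength (X'.presheaf.stalk s') (X'.presheaf.stalk s' ⧸ I) := by
    rw [isFiniteLength_iff_isNoetherian_isArtinian]
    exact ⟨isNoetherian_quotient I,
      isArtinian_of_surjective_algebraMap (Ideal.Quotient.mk_surjective (I := I))⟩
  have htop : Module.length (X'.presheaf.stalk s') (X'.presheaf.stalk s' ⧸ I) ≠ ⊤ :=
    Module.length_ne_top_iff.mpr hfin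
  intro h
  rcases ENat.toNat_eq_zero.mp h with h | h
  · exact h0 h
  · exact htop h

/-- if the pulled back cycle vanishes, the cycle vanishes on the image -/
theorem coeff_eq_zero_of_pullFun_eq_zero {X' X : Scheme.{u}} (p : X' ⟶ X)
    [IsLocallyNoetherian X'] (δ' : X' → ℤ) (δ : X → ℤ)
    (hshift : ∀ x' : X', (∀ y, p y = p x' → y ⤳ x' → y = x') → δ' x' = δ (p x'))
    (α : X → ℤ) (h0 : Cyc.pullFun p δ' δ 0 α = 0) (x' : X') : α (p x') = 0 := by
  obtain ⟨s', hsp, hps', hmax⟩ := exists_fibreMax_ge p x'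
  have h1 := congrFun h0 s'
  simp only [Cyc.pullFun, Pi.zero_apply] at h1
  rw [if_pos (by rw [hshift s' hmax, add_zero])] at h1
  rcases mul_eq_zero.mp h1 with h | h
  · rw [← hps']
    exact h
  · exact absurd (by exact_mod_cast h) (length_fibreMax_ne p s' hmax)

/-- if all the stages have a point over `z`, so does the limit -/
theorem exists_point_over {I : Type u} [Category.{u} I] [IsCofiltered I] (D : I ⥤ Scheme.{u})
    (c : Cone D) (hc : IsLimit c) [∀ {i j : I} (f : i ⟶ j), IsAffineHom (D.map f)]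
    [∀ i, CompactSpace (D.obj i)] (i : I) [Flat (c.π.app i)] (z : D.obj i)
    (h : ∀ (j : I) (f : j ⟶ i), ∃ y : D.obj j, D.map f y = z) :
    ∃ s : c.pt, c.π.app i s = z := by
  obtain ⟨s, hs⟩ := exists_mem_of_isClosed_of_nonempty' D c hc
    (fun j f => (D.map f) ⁻¹' (closure {z}))
    (fun j f => isClosed_closure.preimage (D.map f).continuous)
    (fun j f => by
      obtain ⟨y, hy⟩ := h j f
      exact ⟨y, by rw [Set.mem_preimage, hy]; exact subset_closure rfl⟩)
    (fun j f => (isClosed_closure.preimage (D.map f).continuous).isCompact)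
    (fun j j' g f x hx => by
      rw [Set.mem_preimage] at hx ⊢
      rwa [D.map_comp, Scheme.Hom.comp_apply] at hx)
  have h1 := hs i (𝟙 i)
  rw [Set.mem_preimage, D.map_id] at h1
  have h1' : c.π.app i s ∈ closure {z} := h1
  have h2 : z ⤳ c.π.app i s := specializes_iff_mem_closure.mpr h1'
  obtain ⟨s', -, hs'⟩ := Flat.generalizingMap (c.π.app i) h2
  exact ⟨s', hs'⟩

theorem S6496_main (I : Type u) [Preorder I] [IsDirected I (fun a b => a ≤ b)] [Nonempty I]
    (D : Iᵒᵖ ⥤ Scheme.{u}) (c : Limits.Cone D) (hc : Limits.IsLimit c)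
    (haff : ∀ (i j : Iᵒᵖ) (f : i ⟶ j), IsAffineHom (D.map f))
    (hqc : ∀ i, CompactSpace ↥(D.obj i))
    (δ : (i : Iᵒᵖ) → ↥(D.obj i) → ℤ) (δ' : ↥c.pt → ℤ)
    (hset' : Cyc.IsSetup c.pt δ')
    (hflat' : ∀ i, Flat (c.π.app i))
    (hshift' : ∀ (i : Iᵒᵖ) (x : ↥c.pt),
      (∀ y, c.π.app i y = c.π.app i x → y ⤳ x → y = x) → δ' x = δ i (c.π.app i x))
    (i : Iᵒᵖ) (α : AlgebraicCycle (D.obj i) ℤ)
    (h0 : Cyc.pullFun (c.π.app i) δ' (δ i) 0 ⇑α = 0) :
    ∃ (j : Iᵒᵖ) (f : j ⟶ i), Cyc.pullFun (D.map f) (δ j) (δ i) 0 ⇑α = 0 := by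
  classical
  haveI : ∀ {i j : Iᵒᵖ} (f : i ⟶ j), IsAffineHom (D.map f) := fun f => haff _ _ f
  haveI : ∀ i, CompactSpace (D.obj i) := hqc
  haveI : ∀ i, Flat (c.π.app i) := hflat'
  haveI : IsLocallyNoetherian c.pt := hset'.1
  have hfin : (Function.support α).Finite := finite_support_of_compact α
  have hnone : ∀ z ∈ Function.support α, ∀ s : c.pt, c.π.app i s ≠ z := by
    intro z hz s hs
    have := coeff_eq_zero_of_pullFun_eq_zero (X' := c.pt) (X := D.obj i) (c.π.app i) δ' (δ i)
      (hshift' i) α h0 s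
    rw [hs] at this
    exact hz this
  have hstage : ∀ z ∈ Function.support α,
      ∃ (j : Iᵒᵖ) (f : j ⟶ i), ∀ y : D.obj j, D.map f y ≠ z := by
    intro z hz
    by_contra hcon
    push Not at hcon
    obtain ⟨s, hs⟩ := exists_point_over D c hc i z hcon
    exact hnone z hz s hs
  have key : ∀ T : Finset (D.obj i),
      (∀ z ∈ T, ∃ (j : Iᵒᵖ) (f : j ⟶ i), ∀ y : D.obj j, D.map f y ≠ z) →
      ∃ (j : Iᵒᵖ) (f : j ⟶ i), ∀ z ∈ T, ∀ y : D.obj j, D.map f y ≠ z := by
    intro T
    induction T using Finset.induction_on with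
    | empty => intro _; exact ⟨i, 𝟙 i, fun z hz => absurd hz (Finset.notMem_empty z)⟩
    | insert a T ha ih =>
      intro h
      obtain ⟨j₁, f₁, h₁⟩ := ih (fun z hz => h z (Finset.mem_insert_of_mem hz))
      obtain ⟨j₂, f₂, h₂⟩ := h a (Finset.mem_insert_self a T)
      refine ⟨IsCofiltered.min j₁ j₂, IsCofiltered.minToLeft j₁ j₂ ≫ f₁, ?_⟩
      intro z hz y
      rcases Finset.mem_insert.mp hz with rfl | hz
      · have e : IsCofiltered.minToLeft j₁ j₂ ≫ f₁ = IsCofiltered.minToRight j₁ j₂ ≫ f₂ :=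
          Subsingleton.elim _ _
        rw [e, D.map_comp, Scheme.Hom.comp_apply]
        exact h₂ _
      · rw [D.map_comp, Scheme.Hom.comp_apply]
        exact h₁ z hz _
  obtain ⟨j, f, hj⟩ := key hfin.toFinset (fun z hz => hstage z (hfin.mem_toFinset.mp hz))
  refine ⟨j, f, ?_⟩
  funext x
  have hx : α (D.map f x) = 0 := by
    by_contra hne
    exact hj (D.map f x) (hfin.mem_toFinset.mpr hne) x rfl
  simp only [Cyc.pullFun, Pi.zero_apply]
  rw [hx, zero_mul, ite_self]

end Groth.Agent.Helper7.CycLim
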