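import Mathlib
import Groth.Prelude.Def_Cyc
import Groth.Agent.Lib.Helper7.CycLim.Inj

set_option linter.style.haveILetI false
set_option linter.unusedVariables false
set_option linter.unusedSectionVars false
set_option autoImplicit false
set_option backward.isDefEq.respectTransparency.types false
set_option synthInstance.maxHeartbeats 400000
set_option maxHeartbeats 1600000

namespace Groth.Agent.Helper7.CycLim

open CategoryTheory CategoryTheory.Limits AlgebraicGeometry IsLocalRing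
open Groth.Agent.Lib.Helper4.FibDimBC2

universe u

/-! helper7: cycles on cofiltered limits of schemes: surjectivity of colim Z_k(X_i) -> Z_k(X') -/

/-! helper7: cycles on limits of schemes: surjectivity (helper7) -/

section Lift

variable {I : Type u} [Category.{u} I] [IsCofiltered I] (D : I ⥤ Scheme.{u}) (c : Cone D)
  (hc : IsLimit c) [∀ {i j : I} (f : i ⟶ j), IsAffineHom (D.map f)]

include hc in
/-- sections over the preimage of an affine open of a stage come from a later stage -/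
theorem exists_lift_section (i : I) (U : (D.obj i).Opens) (hU : IsAffineOpen U)
    (s : Γ(c.pt, c.π.app i ⁻¹ᵁ U)) :
    ∃ (j : I) (f : j ⟶ i) (t : Γ(D.obj j, D.map f ⁻¹ᵁ U)),
      (c.π.app j).appLE (D.map f ⁻¹ᵁ U) (c.π.app i ⁻¹ᵁ U)
        (by rw [← Scheme.Hom.comp_preimage, c.w]) t = s := by
  haveI : ∀ j : Over i, IsAffine ((opensDiagram D i U).obj j) :=
    fun j => hU.preimage (D.map j.hom)
  obtain ⟨j, t₀, hj⟩ := exists_appTop_π_eq_of_isAffine_of_isLimit (opensDiagram D i U)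
    (opensCone D c i U) (isLimitOpensCone D c hc i U) ((c.π.app i ⁻¹ᵁ U).topIso.inv s)
  refine ⟨j.left, j.hom, (D.map j.hom ⁻¹ᵁ U).topIso.hom t₀, ?_⟩
  have h1 : ((opensCone D c i U).π.app j).appTop =
      (D.map j.hom ⁻¹ᵁ U).topIso.hom ≫ (c.π.app j.left).appLE (D.map j.hom ⁻¹ᵁ U)
        (c.π.app i ⁻¹ᵁ U) (by rw [← Scheme.Hom.comp_preimage, c.w]) ≫
          (c.π.app i ⁻¹ᵁ U).topIso.inv :=
    Scheme.Hom.resLE_app_top _ _
  rw [h1] at hj
  have h2 := congrArg (c.π.app i ⁻¹ᵁ U).topIso.hom hj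
  have h3 : ∀ x, (c.π.app i ⁻¹ᵁ U).topIso.hom ((c.π.app i ⁻¹ᵁ U).topIso.inv x) = x := fun x => by
    rw [← CommRingCat.comp_apply, Iso.inv_hom_id]
    rfl
  have h4 : (c.π.app i ⁻¹ᵁ U).topIso.hom ((c.π.app i ⁻¹ᵁ U).topIso.inv
      (((c.π.app j.left).appLE (D.map j.hom ⁻¹ᵁ U) (c.π.app i ⁻¹ᵁ U)
        (by rw [← Scheme.Hom.comp_preimage, c.w])) ((D.map j.hom ⁻¹ᵁ U).topIso.hom t₀))) =
      (c.π.app i ⁻¹ᵁ U).topIso.hom ((c.π.app i ⁻¹ᵁ U).topIso.inv s) := h2
  rw [h3, h3] at h4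
  exact h4

end Lift

section Affine

variable {X : Scheme.{u}} {V : X.Opens} (hV : IsAffineOpen V)

theorem mem_primeIdealOf_iff (x : V) (a : Γ(X, V)) :
    a ∈ (hV.primeIdealOf x).asIdeal ↔
      (X.presheaf.germ V x.1 x.2).hom a ∈ maximalIdeal (X.presheaf.stalk x.1) := by
  rw [hV.primeIdealOf_eq_map_closedPoint x]
  rfl

theorem specializes_of_primeIdealOf_le (x y : V)
    (h : (hV.primeIdealOf x).asIdeal ≤ (hV.primeIdealOf y).asIdeal) : (x : X) ⤳ (y : X) := by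
  have h1 := hV.fromSpec.isOpenEmbedding.isInducing.specializes_iff
    (x := hV.primeIdealOf x) (y := hV.primeIdealOf y)
  rw [hV.fromSpec_primeIdealOf, hV.fromSpec_primeIdealOf] at h1
  rw [h1]
  exact (PrimeSpectrum.le_iff_specializes _ _).mp h

theorem maximalIdeal_eq_map_germ (x : V) :
    maximalIdeal (X.presheaf.stalk x.1) =
      Ideal.map (X.presheaf.germ V x.1 x.2).hom (hV.primeIdealOf x).asIdeal := by
  haveI := hV.isLocalization_stalk x
  exact (IsLocalization.AtPrime.map_eq_maximalIdeal (hV.primeIdealOf x).asIdeal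
    (X.presheaf.stalk x.1)).symm

end Affine

section Germ

theorem germ_appLE {X Y : Scheme.{u}} (f : X ⟶ Y) (U : Y.Opens) (V : X.Opens)
    (e : V ≤ f ⁻¹ᵁ U) (x : X) (hx : x ∈ V) (t : Γ(Y, U)) :
    (X.presheaf.germ V x hx).hom ((f.appLE U V e).hom t) =
      (f.stalkMap x).hom ((Y.presheaf.germ U (f x) (e hx)).hom t) := by
  have h1 := Scheme.Hom.germ_stalkMap_apply f U x (e hx) t
  have h2 := TopCat.Presheaf.germ_res_apply X.presheaf (homOfLE e) x hx ((f.app U).hom t)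
  exact h2.trans h1.symm

theorem germ_mem_max_of_eq {Y : Scheme.{u}} (U : Y.Opens) {y y' : Y} (h : y = y') (hy : y ∈ U)
    (hy' : y' ∈ U) (t : Γ(Y, U)) :
    (Y.presheaf.germ U y hy).hom t ∈ maximalIdeal (Y.presheaf.stalk y) ↔
      (Y.presheaf.germ U y' hy').hom t ∈ maximalIdeal (Y.presheaf.stalk y') := by
  subst h
  rfl

theorem mem_max_of_map_mem_max {A B : Type u} [CommRing A] [CommRing B] [IsLocalRing A]
    [IsLocalRing B] (φ : A →+* B) [IsLocalHom φ] (a : A) (h : φ a ∈ maximalIdeal B) :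
    a ∈ maximalIdeal A := by
  rw [mem_maximalIdeal, mem_nonunits_iff] at h ⊢
  exact fun hu => h (hu.map φ)

end Germ

section Pred

variable {X' : Scheme.{u}} {U' : X'.Opens} (hU' : IsAffineOpen U') (x' : X') (hx' : x' ∈ U')

/-- the germ of `b'` at `x'` comes from the maximal ideal downstairs -/
def RA (b' : Γ(X', U')) {Y : Scheme.{u}} (h : X' ⟶ Y) : Prop :=
  (X'.presheaf.germ U' x' hx').hom b' ∈
    Ideal.map (h.stalkMap x').hom (maximalIdeal (Y.presheaf.stalk (h x')))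

/-- `b'` vanishes at all points of the fibre through `x'` -/
def RB (b' : Γ(X', U')) {Y : Scheme.{u}} (h : X' ⟶ Y) : Prop :=
  ∀ s' (hs : s' ∈ U'), h s' = h x' → b' ∈ (hU'.primeIdealOf ⟨s', hs⟩).asIdeal

theorem map_comp_le {Y Z : Scheme.{u}} (h : X' ⟶ Y) (k : Y ⟶ Z) :
    Ideal.map ((h ≫ k).stalkMap x').hom (maximalIdeal (Z.presheaf.stalk ((h ≫ k) x'))) ≤
      Ideal.map (h.stalkMap x').hom (maximalIdeal (Y.presheaf.stalk (h x'))) := by
  have e : Ideal.map ((h ≫ k).stalkMap x').hom (maximalIdeal (Z.presheaf.stalk ((h ≫ k) x'))) =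
      Ideal.map (h.stalkMap x').hom (Ideal.map (k.stalkMap (h x')).hom
        (maximalIdeal (Z.presheaf.stalk (k (h x'))))) := by
    rw [Ideal.map_map, Scheme.Hom.stalkMap_comp]
    rfl
  rw [e]
  apply Ideal.map_mono
  exact ((IsLocalRing.local_hom_TFAE (k.stalkMap (h x')).hom).out 0 2).mp
    (inferInstance : IsLocalHom (k.stalkMap (h x')).hom)

theorem RA_mono (b' : Γ(X', U')) {Y Z : Scheme.{u}} (h : X' ⟶ Y) (k : Y ⟶ Z)
    (H : RA x' hx' b' (h ≫ k)) : RA x' hx' b' h :=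
  map_comp_le x' h k H

theorem RB_mono (b' : Γ(X', U')) {Y Z : Scheme.{u}} (h : X' ⟶ Y) (k : Y ⟶ Z)
    (H : RB hU' x' b' (h ≫ k)) : RB hU' x' b' h := by
  intro s' hs hss
  refine H s' hs ?_
  rw [Scheme.Hom.comp_apply, Scheme.Hom.comp_apply, hss]

theorem RA_RB_of_lift (b' : Γ(X', U')) (hb' : b' ∈ (hU'.primeIdealOf ⟨x', hx'⟩).asIdeal)
    {Y : Scheme.{u}} (h : X' ⟶ Y) (W : Y.Opens) (e : U' ≤ h ⁻¹ᵁ W) (t : Γ(Y, W))
    (ht : (h.appLE W U' e).hom t = b') : RA x' hx' b' h ∧ RB hU' x' b' h := by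
  have hg : ∀ s' (hs : s' ∈ U'), (X'.presheaf.germ U' s' hs).hom b' =
      (h.stalkMap s').hom ((Y.presheaf.germ W (h s') (e hs)).hom t) := by
    intro s' hs
    rw [← ht]
    exact germ_appLE h W U' e s' hs t
  have hmax : (Y.presheaf.germ W (h x') (e hx')).hom t ∈
      maximalIdeal (Y.presheaf.stalk (h x')) := by
    apply mem_max_of_map_mem_max (h.stalkMap x').hom
    rw [← hg x' hx']
    exact (mem_primeIdealOf_iff hU' ⟨x', hx'⟩ b').mp hb'
  refine ⟨?_, ?_⟩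
  · unfold RA
    rw [hg x' hx']
    exact Ideal.mem_map_of_mem _ hmax
  · intro s' hs hss
    rw [mem_primeIdealOf_iff hU' ⟨s', hs⟩ b']
    change (X'.presheaf.germ U' s' hs).hom b' ∈ _
    rw [hg s' hs]
    apply map_nonunit
    exact (germ_mem_max_of_eq W hss (e hs) (e hx') t).mpr hmax

/-- the key property of a point of the limit relative to a projection -/
def PA {Y : Scheme.{u}} (h : X' ⟶ Y) : Prop :=
  maximalIdeal (X'.presheaf.stalk x') ≤
    Ideal.map (h.stalkMap x').hom (maximalIdeal (Y.presheaf.stalk (h x')))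

def PB {Y : Scheme.{u}} (h : X' ⟶ Y) : Prop :=
  ∀ s', h s' = h x' → x' ⤳ s'

theorem PA_mono {Y Z : Scheme.{u}} (h : X' ⟶ Y) (k : Y ⟶ Z) (H : PA x' (h ≫ k)) : PA x' h :=
  le_trans H (map_comp_le x' h k)

theorem PB_mono {Y Z : Scheme.{u}} (h : X' ⟶ Y) (k : Y ⟶ Z) (H : PB x' (h ≫ k)) : PB x' h := by
  intro s' hss
  refine H s' ?_
  rw [Scheme.Hom.comp_apply, Scheme.Hom.comp_apply, hss]

theorem PA_PB_of_gens (S : Finset Γ(X', U'))
    (hS : Ideal.span (S : Set Γ(X', U')) = (hU'.primeIdealOf ⟨x', hx'⟩).asIdeal)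
    {Y : Scheme.{u}} (h : X' ⟶ Y) (hfib : ∀ s', h s' = h x' → s' ∈ U')
    (H : ∀ b' ∈ S, RA x' hx' b' h ∧ RB hU' x' b' h) : PA x' h ∧ PB x' h := by
  refine ⟨?_, ?_⟩
  · unfold PA
    rw [maximalIdeal_eq_map_germ hU' ⟨x', hx'⟩, ← hS, Ideal.map_span, Ideal.span_le]
    rintro _ ⟨b', hb', rfl⟩
    exact (H b' hb').1
  · intro s' hss
    have hs := hfib s' hss
    refine specializes_of_primeIdealOf_le hU' ⟨x', hx'⟩ ⟨s', hs⟩ ?_
    rw [← hS, Ideal.span_le]
    intro b' hb'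
    exact (H b' hb').2 s' hs hss

theorem fibreMax_of_PB {Y : Scheme.{u}} (h : X' ⟶ Y) (H : PB x' h) :
    ∀ y, h y = h x' → y ⤳ x' → y = x' := fun y hy hsp => (hsp.antisymm (H y hy)).eq

theorem eq_of_PB_of_fibreMax {Y : Scheme.{u}} (h : X' ⟶ Y) (H : PB x' h) (s' : X')
    (hs : h s' = h x') (hmax : ∀ y, h y = h s' → y ⤳ s' → y = s') : s' = x' :=
  (hmax x' hs.symm (H s' hs)).symm

theorem length_eq_one_of_PA {Y : Scheme.{u}} (h : X' ⟶ Y) (H : PA x' h) :
    Module.length (X'.presheaf.stalk x')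
      (X'.presheaf.stalk x' ⧸ Ideal.map (h.stalkMap x').hom
        (maximalIdeal (Y.presheaf.stalk (h x')))) = 1 := by
  have hle : Ideal.map (h.stalkMap x').hom (maximalIdeal (Y.presheaf.stalk (h x'))) ≤
      maximalIdeal (X'.presheaf.stalk x') :=
    ((IsLocalRing.local_hom_TFAE (h.stalkMap x').hom).out 0 2).mp
      (inferInstance : IsLocalHom (h.stalkMap x').hom)
  have heq : Ideal.map (h.stalkMap x').hom (maximalIdeal (Y.presheaf.stalk (h x'))) =
      maximalIdeal (X'.presheaf.stalk x') := le_antisymm hle H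
  rw [heq, Module.length_eq_one_iff, isSimpleModule_iff_isCoatom]
  exact (Ideal.isMaximal_def.mp (maximalIdeal.isMaximal _))

end Pred

section Stage

theorem exists_common {J : Type u} [Category.{u} J] [IsCofiltered J] {ι : Type*}
    [DecidableEq ι] (S : Finset ι) (R : ι → J → Prop)
    (hmono : ∀ b (j j' : J) (f : j' ⟶ j), R b j → R b j')
    (hex : ∀ b ∈ S, ∃ j, R b j) : ∃ j, ∀ b ∈ S, R b j := by
  induction S using Finset.induction_on with
  | empty => exact ⟨(IsCofiltered.nonempty (C := J)).some, fun b hb => absurd hb (Finset.notMem_empty b)⟩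
  | insert a T ha ih =>
    obtain ⟨j₁, h₁⟩ := ih (fun b hb => hex b (Finset.mem_insert_of_mem hb))
    obtain ⟨j₂, h₂⟩ := hex a (Finset.mem_insert_self a T)
    refine ⟨IsCofiltered.min j₁ j₂, ?_⟩
    intro b hb
    rcases Finset.mem_insert.mp hb with rfl | hb
    · exact hmono _ _ _ (IsCofiltered.minToRight j₁ j₂) h₂
    · exact hmono _ _ _ (IsCofiltered.minToLeft j₁ j₂) (h₁ b hb)

variable {I : Type u} [Category.{u} I] [IsCofiltered I] (D : I ⥤ Scheme.{u}) (c : Cone D)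
  (hc : IsLimit c) [∀ {i j : I} (f : i ⟶ j), IsAffineHom (D.map f)]

include hc in
theorem exists_stage_point [IsLocallyNoetherian c.pt] (x' : c.pt) :
    ∃ j, PA (X' := c.pt) x' (c.π.app j) ∧ PB (X' := c.pt) x' (c.π.app j) := by
  classical
  let i₀ : I := (IsCofiltered.nonempty (C := I)).some
  obtain ⟨_, ⟨U, hU, rfl⟩, hyU, -⟩ := (D.obj i₀).isBasis_affineOpens.exists_subset_of_mem_open
    (Set.mem_univ (c.π.app i₀ x')) isOpen_univ
  haveI : IsAffineHom (c.π.app i₀) := isAffineHom_π_app D c hc i₀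
  have hU' : IsAffineOpen (X := c.pt) (c.π.app i₀ ⁻¹ᵁ U) := hU.preimage (c.π.app i₀)
  have hx' : x' ∈ (c.π.app i₀ ⁻¹ᵁ U : c.pt.Opens) := hyU
  haveI : IsNoetherianRing Γ(c.pt, c.π.app i₀ ⁻¹ᵁ U) :=
    IsLocallyNoetherian.component_noetherian (X := c.pt) ⟨c.π.app i₀ ⁻¹ᵁ U, hU'⟩
  obtain ⟨S, hS⟩ := (isNoetherianRing_iff_ideal_fg _).mp inferInstance
    (hU'.primeIdealOf ⟨x', hx'⟩).asIdeal
  have hmem : ∀ b' ∈ S, b' ∈ (hU'.primeIdealOf ⟨x', hx'⟩).asIdeal := by
    intro b' hb'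
    rw [← hS]
    exact Ideal.subset_span hb'
  obtain ⟨j₁, hj₁⟩ := exists_common S
    (fun b' j => RA (X' := c.pt) x' hx' b' (c.π.app j) ∧ RB (X' := c.pt) hU' x' b' (c.π.app j))
    (fun b' j j' f H => by
      obtain ⟨H1, H2⟩ := H
      rw [← c.w f] at H1 H2
      exact ⟨RA_mono x' hx' b' _ _ H1, RB_mono hU' x' b' _ _ H2⟩)
    (fun b' hb' => by
      obtain ⟨j, f, t, ht⟩ := exists_lift_section D c hc i₀ U hU b'
      exact ⟨j, RA_RB_of_lift (X' := c.pt) hU' x' hx' b' (hmem b' hb') (c.π.app j)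
        (D.map f ⁻¹ᵁ U) _ t ht⟩)
  let j := IsCofiltered.min j₁ i₀
  have f₀ : j ⟶ i₀ := IsCofiltered.minToRight j₁ i₀
  have f₁ : j ⟶ j₁ := IsCofiltered.minToLeft j₁ i₀
  refine ⟨j, PA_PB_of_gens (X' := c.pt) hU' x' hx' S hS (c.π.app j) ?_ ?_⟩
  · intro s' hss
    have e1 : c.π.app i₀ s' = c.π.app i₀ x' := by
      rw [← c.w f₀, Scheme.Hom.comp_apply, Scheme.Hom.comp_apply, hss]
    change c.π.app i₀ s' ∈ U
    rw [e1]
    exact hyU
  · intro b' hb'
    obtain ⟨H1, H2⟩ := hj₁ b' hb'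
    rw [← c.w f₁] at H1 H2
    exact ⟨RA_mono x' hx' b' _ _ H1, RB_mono hU' x' b' _ _ H2⟩

end Stage

theorem exists_cycle_of_stage {X' Y : Scheme.{u}} (g : X' ⟶ Y) (δ' : X' → ℤ) (δY : Y → ℤ)
    (hdim : Cyc.IsDimFun X' δ')
    (hshift : ∀ x : X', (∀ y, g y = g x → y ⤳ x → y = x) → δ' x = δY (g x))
    (k : ℤ) (α' : AlgebraicCycle X' ℤ) (hα' : α' ∈ Cyc.Zk X' δ' k)
    (hfin : (Function.support α').Finite)
    (hj : ∀ x' ∈ hfin.toFinset, PA x' g ∧ PB x' g) :
    ∃ α : AlgebraicCycle Y ℤ, α ∈ Cyc.Zk Y δY k ∧ Cyc.pullFun g δ' δY 0 ⇑α = ⇑α' := by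
  classical
  set T := hfin.toFinset with hT
  have hmaxT : ∀ x' ∈ T, ∀ y, g y = g x' → y ⤳ x' → y = x' :=
    fun x' hx' => fibreMax_of_PB x' g (hj x' hx').2
  have hδT : ∀ x' ∈ T, δ' x' = δY (g x') := fun x' hx' => hshift x' (hmaxT x' hx')
  have hkT : ∀ x' ∈ T, δ' x' = k := by
    intro x' hx'
    by_contra hne
    exact (hfin.mem_toFinset.mp hx') (hα' x' hne)
  let a : Y → ℤ := fun z => ∑ x' ∈ T, if g x' = z then α' x' else 0
  have hsupp : Function.support a ⊆ ↑(T.image (fun x' => g x')) := by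
    intro z hz
    obtain ⟨x', hx', hne⟩ := Finset.exists_ne_zero_of_sum_ne_zero hz
    have : g x' = z := by
      by_contra h
      exact hne (if_neg h)
    exact Finset.mem_coe.mpr (Finset.mem_image.mpr ⟨x', hx', this⟩)
  let α : AlgebraicCycle Y ℤ :=
    { toFun := a
      supportWithinDomain' := Set.subset_univ _
      supportLocallyFiniteWithinDomain' := fun z _ => ⟨Set.univ, Filter.univ_mem,
        ((Finset.finite_toSet _).subset hsupp).subset Set.inter_subset_right⟩ }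
  have hcoe : ∀ z, α z = a z := fun z => rfl
  have C1 : ∀ x' ∈ T, a (g x') = α' x' := by
    intro x' hx'
    change (∑ y ∈ T, if g y = g x' then α' y else 0) = α' x'
    rw [Finset.sum_eq_single x']
    · rw [if_pos rfl]
    · intro y hy hne
      rw [if_neg]
      intro hyx
      exact hne (eq_of_PB_of_fibreMax x' g (hj x' hx').2 y hyx (hmaxT y hy))
    · intro h
      exact absurd hx' h
  refine ⟨α, ?_, ?_⟩
  · intro z hz
    rw [hcoe]
    apply Finset.sum_eq_zero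
    intro x' hx'
    rw [if_neg]
    intro h
    apply hz
    rw [← h, ← hδT x' hx', hkT x' hx']
  · funext s'
    simp only [Cyc.pullFun]
    by_cases hs : s' ∈ T
    · rw [if_pos (by rw [add_zero]; exact hδT s' hs), hcoe, C1 s' hs,
        length_eq_one_of_PA s' g (hj s' hs).1]
      simp
    · have h0 : α' s' = 0 := by
        by_contra hne
        exact hs (hfin.mem_toFinset.mpr hne)
      rw [h0]
      by_cases hδ : δ' s' = δY (g s') + 0
      · rw [if_pos hδ, hcoe]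
        have ha : a (g s') = 0 := by
          by_contra hne
          obtain ⟨x', hx', hne'⟩ := Finset.exists_ne_zero_of_sum_ne_zero hne
          have hx's : g x' = g s' := by
            by_contra h
            exact hne' (if_neg h)
          have hsp : x' ⤳ s' := (hj x' hx').2 s' hx's.symm
          by_cases hxs : x' = s'
          · exact hs (hxs ▸ hx')
          · have h1 := (hdim x' s' hsp hxs).1
            have h2 := hδT x' hx'
            rw [hx's] at h2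
            omega
        rw [ha, zero_mul]
      · rw [if_neg hδ]

theorem S6495_main (I : Type u) [Preorder I] [IsDirected I (fun a b => a ≤ b)] [Nonempty I]
    (D : Iᵒᵖ ⥤ Scheme.{u}) (c : Limits.Cone D) (hc : Limits.IsLimit c)
    (haff : ∀ (i j : Iᵒᵖ) (f : i ⟶ j), IsAffineHom (D.map f))
    (hqc : ∀ i, CompactSpace ↥(D.obj i))
    (δ : (i : Iᵒᵖ) → ↥(D.obj i) → ℤ) (δ' : ↥c.pt → ℤ) (hset' : Cyc.IsSetup c.pt δ')
    (hshift' : ∀ (i : Iᵒᵖ) (x : ↥c.pt),
      (∀ y, c.π.app i y = c.π.app i x → y ⤳ x → y = x) → δ' x = δ i (c.π.app i x))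
    (k : ℤ) (α' : AlgebraicCycle c.pt ℤ) (hα' : α' ∈ Cyc.Zk c.pt δ' k) :
    ∃ (i : Iᵒᵖ) (α : AlgebraicCycle (D.obj i) ℤ), α ∈ Cyc.Zk (D.obj i) (δ i) k ∧
      Cyc.pullFun (c.π.app i) δ' (δ i) 0 ⇑α = ⇑α' := by
  classical
  haveI : ∀ {i j : Iᵒᵖ} (f : i ⟶ j), IsAffineHom (D.map f) := fun f => haff _ _ f
  haveI : ∀ i, CompactSpace (D.obj i) := hqc
  haveI : IsLocallyNoetherian c.pt := hset'.1
  haveI : CompactSpace c.pt := Scheme.compactSpace_of_isLimit D c hc
  have hfin : (Function.support α').Finite := finite_support_of_compact α'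
  obtain ⟨j, hj⟩ := exists_common hfin.toFinset
    (fun x' j => PA (X' := c.pt) x' (c.π.app j) ∧ PB (X' := c.pt) x' (c.π.app j))
    (fun x' j j' f H => by
      obtain ⟨H1, H2⟩ := H
      rw [← c.w f] at H1 H2
      exact ⟨PA_mono x' _ _ H1, PB_mono x' _ _ H2⟩)
    (fun x' _ => exists_stage_point D c hc x')
  obtain ⟨α, h1, h2⟩ := exists_cycle_of_stage (X' := c.pt) (Y := D.obj j) (c.π.app j) δ' (δ j)
    hset'.2.2 (hshift' j) k α' hα' hfin hj
  exact ⟨j, α, h1, h2⟩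

end Groth.Agent.Helper7.CycLim
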